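import Cfsg.Agent.H470.EPK.ParOfVJ
import Cfsg.Agent.KFacts.RgdLieCharP
import Cfsg.Agent.H528.EP.UB3_m3
import Cfsg.Agent.FastGrp
import Cfsg.Agent.Prune
set_option linter.all false

section
prune_inst 0x7f00000000000000000000000000000000000000000000000000000000000000000000000000000000000000000000000000000000000000000000000000000000000000000000000000000000000000003fffffffffffffffffffffffffffbeffbdffffffff

-- part: H12/EP/BT
section
set_option linter.all false
open scoped Cfsg.Agent.FastGrp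

-- part: H12/EP/Pars
section
/-!
# S3499-VII-BT-COUNT (helper12), part 1: the canonical parabolic subgroups

`Pars p Y 𝓟` : `𝓟` is a set of proper subgroups of the finite group `Y`, at most `|Y|` many, such that every subgroup
`K` of `Y` with a normal `p`-subgroup `≠ 1` lies in an element of `𝓟` which is invariant under all automorphisms of
`Y` fixing `K`.

`exists_pars` : every simple group of Lie type in its own characteristic `p` (`HasFilt p Y`) has such a set.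
-/

set_option autoImplicit false
set_option linter.unusedSectionVars false

namespace Cfsg.Agent.H12.EP.BT

open CoxeterSystem Cfsg.Agent.ChevalleyStructure.CoxeterGeom Cfsg.Agent.Tits.Roots Cfsg.Agent.Tits.Core
  Cfsg.Agent.Tits.RootComb Cfsg.Agent.Tits.Exchange Cfsg.Agent.Nodes.Reps Cfsg.Agent.Nodes.BNOf
  Cfsg.Agent.Nodes.StabComb Cfsg.Agent.Nodes.Bruhat Cfsg.Agent.Nodes.OppDec Cfsg.Agent.Nodes.LeviDec
  Cfsg.Agent.Nodes.Coroot Cfsg.Agent.KFacts.RgdPar Cfsg.Agent.KFacts.RgdSL Cfsg.Agent.KFacts.RgdVJ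
  Cfsg.Agent.KFacts.RgdCharP Cfsg.Agent.KFacts.RgdFilt Cfsg.Agent.KFacts.RgdLieCharP

/-- The canonical parabolic subgroups. -/
structure Pars (p : ℕ) (Y : Type*) [Group Y] (𝓟 : Set (Subgroup Y)) : Prop where
  card_le : 𝓟.ncard ≤ Nat.card Y
  ne_top : ∀ P ∈ 𝓟, P ≠ ⊤
  exists_mem : ∀ K N₀ : Subgroup Y, N₀ ≤ K → (∀ k ∈ K, ∀ v ∈ N₀, k * v * k⁻¹ ∈ N₀) → IsPGroup p N₀ → N₀ ≠ ⊥ →
    ∃ P ∈ 𝓟, K ≤ P ∧ ∀ φ : MulAut Y, (∀ k ∈ K, φ k ∈ K) → ∀ x ∈ P, φ x ∈ P

section

variable {W Y : Type*} [Group W] [Group Y] {l : ℕ} {M : CoxeterMatrix (Fin l)}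
  {cs : CoxeterSystem M W} {A : Fin l → Fin l → ℤ} {h : IsCartan M A} {p : ℕ} {T : Subgroup Y} {n : Fin l → Y}
  {X : (Fin l → ℤ) → Subgroup Y} (R : RGD cs h p T n X)

include R

theorem VJ_ne [Finite W] {J L : Set (Fin l)} {i : Fin l} (hiL : i ∈ L) (hiJ : i ∉ J) : VJ cs h X J ≠ VJ cs h X L := by
  intro e
  have h1 : cj (n i) (VJ cs h X L) = VJ cs h X L :=
    mem_normalizer_iff_cj.1 (PJ_le_normalizer_VJ R L (LJ_le_PJ (n_mem_LJ R hiL)))
  have h2 : X (-sr i) ≤ VJ cs h X J := by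
    rw [e, ← h1, ← e]
    have h3 : X (-sr i) = cj (n i) (X (sr i)) := by
      rw [R.conj i _ (isRoot_sr cs h i), rep_simple_sr]
    rw [h3]
    exact cj_mono _ (RGD.le_Sup (sr_mem_NotJ hiJ))
  exact R.not_neg_le_B i (le_trans h2 (VJ_le_B J))

/-- `2 ^ l ≤ |B|` -/
theorem two_pow_le [Finite W] [Finite Y] : 2 ^ l ≤ Nat.card (RGD.B cs h T X) := by
  have key : ∀ k, k ≤ l → 2 ^ k ≤ Nat.card (VJ cs h X {j : Fin l | j.val < l - k}) := by
    intro k
    induction k with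
    | zero => intro _; rw [pow_zero]; exact Nat.card_pos
    | succ k ih =>
      intro hk
      have h1 := ih (by omega)
      have hle : VJ cs h X {j : Fin l | j.val < l - k} ≤ VJ cs h X {j : Fin l | j.val < l - (k + 1)} :=
        Cfsg.Agent.H470.EPK.VJ_anti (fun j (hj : j.val < l - (k + 1)) => show j.val < l - k by omega)
      have hne : VJ cs h X {j : Fin l | j.val < l - (k + 1)} ≠ VJ cs h X {j : Fin l | j.val < l - k} :=
        VJ_ne R (i := ⟨l - (k + 1), by omega⟩) (show l - (k + 1) < l - k by omega)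
          (show ¬ (l - (k + 1) < l - (k + 1)) from lt_irrefl _)
      have h2 := Subgroup.card_dvd_of_le hle
      obtain ⟨c, hc⟩ := h2
      have hc2 : 2 ≤ c := by
        by_contra hlt
        push Not at hlt
        have h3 : 0 < Nat.card (VJ cs h X {j : Fin l | j.val < l - (k + 1)}) := Nat.card_pos
        interval_cases c
        · omega
        · rw [mul_one] at hc
          exact hne (Subgroup.eq_of_le_of_card_ge hle hc.le).symm
      rw [hc, pow_succ]
      exact Nat.mul_le_mul h1 hc2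
  have h1 := key l le_rfl
  refine h1.trans ?_
  exact Nat.le_of_dvd Nat.card_pos (Subgroup.card_dvd_of_le (VJ_le_B _))

/-- the number of parabolic subgroups -/
theorem ncard_par_le [Finite W] [Finite Y] :
    {P : Subgroup Y | ∃ (J : Set (Fin l)) (g : Y), J ≠ Set.univ ∧ P = cj g (PJ cs h T X J)}.ncard ≤ Nat.card Y := by
  classical
  have hsub : {P : Subgroup Y | ∃ (J : Set (Fin l)) (g : Y), J ≠ Set.univ ∧ P = cj g (PJ cs h T X J)} ⊆
      Set.range fun c : (Y ⧸ RGD.B cs h T X) × Set (Fin l) => cj c.1.out (PJ cs h T X c.2) := by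
    rintro P ⟨J, g, -, rfl⟩
    refine ⟨((g : Y ⧸ RGD.B cs h T X), J), ?_⟩
    obtain ⟨b, hb⟩ := QuotientGroup.mk_out_eq_mul (RGD.B cs h T X) g
    show cj ((g : Y ⧸ RGD.B cs h T X).out) (PJ cs h T X J) = _
    rw [hb, cj_mul, cj_eq_of_mem (B_le_PJ b.2)]
  refine (Set.ncard_le_ncard hsub (Set.toFinite _)).trans ?_
  rw [← Set.image_univ]
  refine (Set.ncard_image_le (Set.toFinite _)).trans ?_
  rw [Set.ncard_univ, Nat.card_prod, ← (RGD.B cs h T X).index_mul_card]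
  refine Nat.mul_le_mul le_rfl ?_
  have h1 : Nat.card (Set (Fin l)) = 2 ^ l := by
    rw [Nat.card_eq_fintype_card, Fintype.card_set, Fintype.card_fin]
  rw [h1]
  exact two_pow_le R

theorem PJ_ne_top [Finite W] [Finite Y] [IsSimpleGroup Y] [Fact p.Prime]
    (hc : ∃ a b : Y, a * b ≠ b * a) {J : Set (Fin l)} (hJ : J ≠ Set.univ) : PJ cs h T X J ≠ ⊤ := by
  intro h3
  obtain ⟨i, hi⟩ : ∃ i, i ∉ J := by
    by_contra hcon
    push Not at hcon
    exact hJ (Set.eq_univ_of_forall hcon)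
  have hV1 : VJ cs h X J ≠ ⊥ := by
    intro h5
    have h4 : X (sr i) ≤ VJ cs h X J := RGD.le_Sup (sr_mem_NotJ hi)
    exact X_ne_bot R (isRoot_sr cs h i) (le_bot_iff.1 (h5 ▸ h4))
  have h4 : Subgroup.normalizer (VJ cs h X J : Set Y) = ⊤ := by
    rw [eq_top_iff, ← h3]
    exact PJ_le_normalizer_VJ R J
  have h5 := Subgroup.normalizer_eq_top_iff.1 h4
  rcases h5.eq_bot_or_eq_top with h6 | h6
  · exact hV1 h6
  · have h7 : IsPGroup p (⊤ : Subgroup Y) := h6 ▸ isPGroup_VJ R J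
    obtain ⟨a, b, hab⟩ := hc
    have h8 : IsPGroup p Y := h7.of_equiv Subgroup.topEquiv
    have h9 := h8.center_nontrivial
    rw [center_eq_bot ⟨a, b, hab⟩] at h9
    exact not_nontrivial _ h9

end

/-- **canonical parabolic subgroups** -/
theorem exists_pars {p : ℕ} {Y : Type*} [Group Y] [Finite Y] [IsSimpleGroup Y] [Fact p.Prime] (hG : HasFilt p Y)
    (hc : ∃ a b : Y, a * b ≠ b * a) : ∃ 𝓟 : Set (Subgroup Y), Pars p Y 𝓟 := by
  obtain ⟨l, M, A, h, T, n, X, R, hW, hBT, hGG, hN, hconn, hX, hl⟩ := hG.data hc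
  refine ⟨_, ncard_par_le R, ?_, ?_⟩
  · rintro _ ⟨J, g, hJ, rfl⟩ e
    apply PJ_ne_top R hc hJ
    rw [← cj_inv_cj g (PJ M.toCoxeterSystem h T X J), e, eq_top_iff]
    intro y _
    rw [mem_cj]
    trivial
  · intro K N₀ hN₀ hn hp h1
    obtain ⟨J', g', h2, h3, h4⟩ := Cfsg.Agent.H470.EPK.exists_canon R hBT hN₀ hn hp h1
    exact ⟨_, ⟨J', g', h2, rfl⟩, h3, h4⟩

end Cfsg.Agent.H12.EP.BT
end

-- part: H12/EP/GenJ
section
/-!
# S3499-VII-BT-COUNT (helper12), part 2: the counting theorem for arbitrary orders, one prime excluded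

`ncard_np_le` : the counting theorem of helper59 / helper528 for `|B| < 60 ^ 60 ^ j` (`2 + j` generators), where the
members of `𝓜` have no characteristic elementary abelian `p`-subgroup `≠ 1`:
`|𝓜| ≤ C * c + |B| ^ 2 / 60 + E`, `E = |B| ^ (2 + j) / 3600`, or `E = 0` if `s ^ 2 ∤ |B|` for all `s ≥ 5`; `C` = number of classes of elementary abelian `s`-subgroups,
`s ≠ p` (`ClsLe p C B`; `clsLe_gal` : `C = ∑_{s ≠ p} gal s (v_s |B|)`).
-/

set_option autoImplicit false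
set_option linter.unusedSectionVars false

namespace Cfsg.Agent.H12.EP.BT

open Subgroup Cfsg.Agent.H59.EP Cfsg.Agent.H528.EP
open scoped commutatorElement

universe u

section gen

variable {S : Type*} [Group S] {n : ℕ}

/-- the values at `i` of the elements of `H` which are trivial on `J` -/
def val (H : Subgroup (Fin n → S)) (J : Finset (Fin n)) (i : Fin n) : Subgroup S where
  carrier := {s | ∃ h ∈ H, (∀ j ∈ J, h j = 1) ∧ h i = s}
  one_mem' := ⟨1, H.one_mem, fun _ _ => rfl, rfl⟩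
  mul_mem' := by
    rintro _ _ ⟨h, hh, h1, rfl⟩ ⟨k, hk, k1, rfl⟩
    exact ⟨h * k, H.mul_mem hh hk, fun j hj => by rw [Pi.mul_apply, h1 j hj, k1 j hj, one_mul], rfl⟩
  inv_mem' := by
    rintro _ ⟨h, hh, h1, rfl⟩
    exact ⟨h⁻¹, H.inv_mem hh, fun j hj => by rw [Pi.inv_apply, h1 j hj, inv_one], rfl⟩

theorem mem_val {H : Subgroup (Fin n → S)} {J : Finset (Fin n)} {i : Fin n} {s : S} :
    s ∈ val H J i ↔ ∃ h ∈ H, (∀ j ∈ J, h j = 1) ∧ h i = s := Iff.rfl

theorem val_normal {H : Subgroup (Fin n → S)} (hD : ∀ s : S, (fun _ => s) ∈ H) (J : Finset (Fin n)) (i : Fin n) :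
    (val H J i).Normal := by
  refine ⟨?_⟩
  rintro _ ⟨h, hh, h1, rfl⟩ s
  refine ⟨(fun _ => s) * h * (fun _ => s)⁻¹, H.mul_mem (H.mul_mem (hD s) hh) (H.inv_mem (hD s)), fun j hj => ?_, rfl⟩
  show s * h j * s⁻¹ = 1
  rw [h1 j hj, mul_one, mul_inv_cancel]

theorem val_top [hs : IsSimpleGroup S] (hn : ¬ ∀ a b : S, a * b = b * a) {H : Subgroup (Fin n → S)}
    (hD : ∀ s : S, (fun _ => s) ∈ H) (hsep : ∀ i k : Fin n, i ≠ k → ∃ c ∈ H, c i ≠ c k) (i : Fin n)
    (J : Finset (Fin n)) (hi : i ∉ J) : val H J i = ⊤ := by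
  classical
  induction J using Finset.induction_on with
  | empty =>
    rw [eq_top_iff']
    intro s
    exact ⟨_, hD s, fun j hj => absurd hj (Finset.notMem_empty j), rfl⟩
  | insert k J hk ih =>
    rw [Finset.mem_insert, not_or] at hi
    have h1 := ih hi.2
    -- a nontrivial value with trivial `k`-coordinate
    have h2 : val H {k} i = ⊤ := by
      refine ((val_normal hD {k} i).eq_bot_or_eq_top).resolve_left fun h => ?_
      obtain ⟨c, hcH, hc⟩ := hsep i k hi.1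
      have h3 : c i * (c k)⁻¹ ∈ val H {k} i := by
        refine ⟨c * (fun _ => c k)⁻¹, H.mul_mem hcH (H.inv_mem (hD _)), fun j hj => ?_, rfl⟩
        rw [Finset.mem_singleton] at hj
        subst hj
        show c j * (c j)⁻¹ = 1
        exact mul_inv_cancel _
      rw [h, mem_bot, mul_inv_eq_one] at h3
      exact hc h3
    refine ((val_normal hD (insert k J) i).eq_bot_or_eq_top).resolve_left fun h => hn fun s t => ?_
    obtain ⟨x, hx, hx1, rfl⟩ := mem_val.1 (h1 ▸ mem_top s : s ∈ val H J i)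
    obtain ⟨y, hy, hy1, rfl⟩ := mem_val.1 (h2 ▸ mem_top t : t ∈ val H {k} i)
    have h4 : x i * y i * (x i)⁻¹ * (y i)⁻¹ ∈ val H (insert k J) i := by
      refine ⟨x * y * x⁻¹ * y⁻¹, H.mul_mem (H.mul_mem (H.mul_mem hx hy) (H.inv_mem hx)) (H.inv_mem hy),
        fun j hj => ?_, rfl⟩
      show x j * y j * (x j)⁻¹ * (y j)⁻¹ = 1
      rw [Finset.mem_insert] at hj
      rcases hj with rfl | hj
      · rw [hy1 j (Finset.mem_singleton_self j), mul_one, mul_inv_cancel, inv_one, one_mul]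
      · rw [hx1 j hj, one_mul, inv_one, mul_one, mul_inv_cancel]
    rw [h, mem_bot, mul_inv_eq_one, mul_inv_eq_iff_eq_mul] at h4
    exact h4

/-- `2 + j` generators for `S ^ n`, `n ≤ |S| ^ j` -/
theorem exists_gen_pi [Finite S] [hs : IsSimpleGroup S] (hn : ¬ ∀ a b : S, a * b = b * a) {a b : S}
    (hab : _root_.Subgroup.closure ({a, b} : Set S) = ⊤) {j : ℕ} (hj : n ≤ Nat.card S ^ j) :
    ∃ f : Fin (2 + j) → (Fin n → S), _root_.Subgroup.closure (Set.range f) = ⊤ := by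
  classical
  obtain ⟨c, hc⟩ : ∃ c : Fin n → (Fin j → S), Function.Injective c := by
    have := Fintype.ofFinite S
    have h1 : Fintype.card (Fin n) ≤ Fintype.card (Fin j → S) := by
      rw [Fintype.card_fin, Fintype.card_fun, Fintype.card_fin, ← Nat.card_eq_fintype_card]
      exact hj
    exact ⟨_, (Function.Embedding.nonempty_of_card_le h1).some.injective⟩
  let f : Fin (2 + j) → (Fin n → S) := Fin.append ![fun _ => a, fun _ => b] (fun i k => c k i)
  refine ⟨f, ?_⟩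
  set H := _root_.Subgroup.closure (Set.range f) with hH
  have ha : (fun _ => a : Fin n → S) ∈ H := by
    refine subset_closure ⟨Fin.castAdd j 0, ?_⟩
    show Fin.append _ _ _ = _
    rw [Fin.append_left]
    rfl
  have hb : (fun _ => b : Fin n → S) ∈ H := by
    refine subset_closure ⟨Fin.castAdd j 1, ?_⟩
    show Fin.append _ _ _ = _
    rw [Fin.append_left]
    rfl
  have hcH : ∀ i : Fin j, (fun k => c k i) ∈ H := by
    intro i
    refine subset_closure ⟨Fin.natAdd 2 i, ?_⟩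
    show Fin.append _ _ _ = _
    rw [Fin.append_right]
  have hD : ∀ s : S, (fun _ => s) ∈ H := by
    intro s
    let g : S →* (Fin n → S) := { toFun := fun s _ => s, map_one' := rfl, map_mul' := fun _ _ => rfl }
    have h1 : _root_.Subgroup.closure ({a, b} : Set S) ≤ H.comap g := by
      rw [closure_le]
      rintro x (rfl | rfl)
      · exact ha
      · exact hb
    have h2 : s ∈ H.comap g := h1 (hab ▸ mem_top s)
    exact h2
  have hsep : ∀ i k : Fin n, i ≠ k → ∃ c ∈ H, c i ≠ c k := by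
    intro i k hik
    by_contra hcon
    push Not at hcon
    apply hik
    apply hc
    funext l
    exact hcon _ (hcH l)
  rw [eq_top_iff']
  intro g
  have h1 : ∀ i : Fin n, Pi.mulSingle i (g i) ∈ H := by
    intro i
    have h2 := val_top hn hD hsep i (Finset.univ.erase i) (Finset.notMem_erase i _)
    obtain ⟨h, hh, h3, h4⟩ := mem_val.1 (h2 ▸ mem_top (g i) : g i ∈ val H (Finset.univ.erase i) i)
    have h5 : h = Pi.mulSingle i (g i) := by
      funext j
      by_cases hj : j = i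
      · subst hj
        rw [Pi.mulSingle_eq_same, h4]
      · rw [Pi.mulSingle_eq_of_ne hj, h3 j (Finset.mem_erase.2 ⟨hj, Finset.mem_univ j⟩)]
    rw [← h5]
    exact hh
  rw [← Finset.noncommProd_mulSingle g]
  exact Subgroup.noncommProd_mem _ _ fun i _ => h1 i

theorem closure_range_of_equiv {X Y : Type*} [Group X] [Group Y] (e : X ≃* Y) {d : ℕ} {f : Fin d → Y}
    (h : _root_.Subgroup.closure (Set.range f) = ⊤) : _root_.Subgroup.closure (Set.range fun i => e.symm (f i)) = ⊤ := by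
  have h1 : (_root_.Subgroup.closure (Set.range f)).map e.symm.toMonoidHom = _root_.Subgroup.closure (Set.range fun i => e.symm (f i)) := by
    rw [MonoidHom.map_closure, ← Set.range_comp]
    rfl
  rw [← h1, h, ← MonoidHom.range_eq_map]
  exact MonoidHom.range_eq_top.2 e.symm.surjective

end gen

section count

variable {B : Type u} [Group B] [Finite B]

/-- `d`-generated subgroups of order at least `k` with trivial centre -/
theorem ncard_dgen_le {d k : ℕ} (hk : 0 < k) {𝒮 : Set (Subgroup B)} (hs : ∀ X ∈ 𝒮, k ≤ Nat.card X ∧ center X = ⊥ ∧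
    ∃ f : Fin d → X, _root_.Subgroup.closure (Set.range f) = ⊤) : 𝒮.ncard ≤ Nat.card B ^ d / k := by
  classical
  rw [Nat.le_div_iff_mul_le hk]
  have hfin : 𝒮.Finite := Set.toFinite _
  let G : Subgroup B → Set (Fin d → B) := fun X => {p | _root_.Subgroup.closure (Set.range p) = X}
  have hG : ∀ X ∈ 𝒮, k ≤ (G X).ncard := by
    intro X hX
    obtain ⟨hXk, hzb, f, hf⟩ := hs X hX
    refine hXk.trans ?_
    have hcl : closure (Set.range fun i => (f i : B)) = X := by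
      have h1 := congrArg (Subgroup.map X.subtype) hf
      rw [MonoidHom.map_closure, ← Set.range_comp, ← MonoidHom.range_eq_map, X.range_subtype] at h1
      exact h1
    have hcomm : ∀ {g k x : B}, g * x * g⁻¹ = k * x * k⁻¹ → (k⁻¹ * g) * x = x * (k⁻¹ * g) := by
      intro g k x h2
      rw [mul_inv_eq_iff_eq_mul] at h2
      have h3 : k⁻¹ * (g * x) = x * k⁻¹ * g := by rw [h2]; group
      rw [mul_assoc k⁻¹ g, h3, mul_assoc]
    have hinj : Set.InjOn (fun (g : B) (i : Fin d) => g * (f i : B) * g⁻¹) (X : Set B) := by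
      intro g hg k hk e
      have h1 : ∀ x ∈ X, (k⁻¹ * g) * x = x * (k⁻¹ * g) := by
        have hle : X ≤ centralizer {k⁻¹ * g} := by
          rw [← hcl, closure_le]
          rintro _ ⟨i, rfl⟩
          rw [SetLike.mem_coe, mem_centralizer_singleton_iff]
          exact (hcomm (congrFun e i)).symm
        intro x hx
        exact (mem_centralizer_singleton_iff.1 (hle hx)).symm
      have hz : (⟨k⁻¹ * g, mul_mem (inv_mem hk) hg⟩ : X) ∈ center X := by
        rw [mem_center_iff]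
        intro x
        exact Subtype.ext (h1 x x.2).symm
      rw [hzb, mem_bot] at hz
      have h2 : k⁻¹ * g = 1 := Subtype.ext_iff.1 hz
      rw [inv_mul_eq_one] at h2
      exact h2.symm
    have hcard : Nat.card X = ((fun (g : B) (i : Fin d) => g * (f i : B) * g⁻¹) '' (X : Set B)).ncard := by
      rw [hinj.ncard_image]
      rfl
    rw [hcard]
    refine Set.ncard_le_ncard ?_ (Set.toFinite _)
    rintro _ ⟨g, hg, rfl⟩
    show _root_.Subgroup.closure (Set.range fun i => g * (f i : B) * g⁻¹) = X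
    have h1 : (Set.range fun i => g * (f i : B) * g⁻¹) = (MulAut.conj g).toMonoidHom '' Set.range fun i => (f i : B) := by
      rw [← Set.range_comp]
      rfl
    rw [h1, ← MonoidHom.map_closure, hcl]
    ext y
    constructor
    · rintro ⟨x, hx, rfl⟩
      exact X.mul_mem (X.mul_mem hg hx) (X.inv_mem hg)
    · intro hy
      refine ⟨g⁻¹ * y * g, X.mul_mem (X.mul_mem (X.inv_mem hg) hy) hg, ?_⟩
      show g * (g⁻¹ * y * g) * g⁻¹ = y
      group
  have hdis : (hfin.toFinset : Set (Subgroup B)).PairwiseDisjoint fun X => (Set.toFinite (G X)).toFinset := by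
    intro X _ Y _ hne
    rw [Function.onFun, Finset.disjoint_left]
    intro p hp hq
    rw [Set.Finite.mem_toFinset] at hp hq
    exact hne (hp.symm.trans hq)
  have h1 : (hfin.toFinset.biUnion fun X => (Set.toFinite (G X)).toFinset).card ≤ Nat.card (Fin d → B) := by
    have := Set.ncard_le_ncard (Set.subset_univ
      ((hfin.toFinset.biUnion fun X => (Set.toFinite (G X)).toFinset : Finset (Fin d → B)) : Set (Fin d → B)))
      (Set.toFinite _)
    rw [Set.ncard_coe_finset, Set.ncard_univ] at this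
    exact this
  rw [Finset.card_biUnion hdis] at h1
  have h3 : Nat.card (Fin d → B) = Nat.card B ^ d := by
    rw [Nat.card_fun, Nat.card_eq_fintype_card (α := Fin d), Fintype.card_fin]
  rw [h3] at h1
  refine le_trans ?_ h1
  rw [Set.ncard_eq_toFinset_card _ hfin, ← smul_eq_mul]
  apply Finset.card_nsmul_le_sum
  intro X hX
  rw [← Set.ncard_eq_toFinset_card _ (Set.toFinite _)]
  exact hG X (hfin.mem_toFinset.1 hX)

/-- **Characteristically simple groups** of order less than `60 ^ 60 ^ j`: elementary abelian, simple, or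
`2 + j`-generated with trivial centre and of order at least 3600. -/
theorem char_simple_j {X : Type u} [Group X] [Finite X] [Nontrivial X] (hg : TwoGen.{u})
    (hc : ∀ Y : Subgroup X, Y.Characteristic → Y = ⊥ ∨ Y = ⊤) {j : ℕ} (hX : Nat.card X < 60 ^ 60 ^ j) :
    (∃ s : ℕ, s.Prime ∧ s ∣ Nat.card X ∧ ElAb s (⊤ : Subgroup X)) ∨ (IsSimpleGroup X ∧ ¬ Group.IsSolvable X) ∨
      ((∃ s : ℕ, s.Prime ∧ 5 ≤ s ∧ s ^ 2 ∣ Nat.card X) ∧ 3600 ≤ Nat.card X ∧ center X = ⊥ ∧
        ∃ f : Fin (2 + j) → X, _root_.Subgroup.closure (Set.range f) = ⊤) := by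
  by_cases hcomm : ∀ a b : X, a * b = b * a
  · left
    obtain ⟨s, hs, hsd⟩ := Nat.exists_prime_and_dvd (n := Nat.card X) (by
      have := Finite.one_lt_card (α := X)
      omega)
    have : Fact s.Prime := ⟨hs⟩
    obtain ⟨x, hx⟩ := exists_prime_orderOf_dvd_card' s hsd
    let Y : Subgroup X :=
      { carrier := {y | y ^ s = 1}
        one_mem' := one_pow s
        mul_mem' := fun {a b} ha hb => by
          show (a * b) ^ s = 1
          rw [(show Commute a b from hcomm a b).mul_pow, show a ^ s = 1 from ha, show b ^ s = 1 from hb, one_mul]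
        inv_mem' := fun {a} ha => by
          show a⁻¹ ^ s = 1
          rw [inv_pow, show a ^ s = 1 from ha, inv_one] }
    have hY : Y.Characteristic := by
      rw [characteristic_iff_map_le]
      rintro φ _ ⟨y, hy, rfl⟩
      show (φ y) ^ s = 1
      rw [← map_pow, show y ^ s = 1 from hy, map_one]
    refine ⟨s, hs, hsd, fun a _ b _ => hcomm a b, ?_⟩
    rcases hc Y hY with h | h
    · exfalso
      have h1 : x ∈ Y := by
        show x ^ s = 1
        rw [← hx, pow_orderOf_eq_one]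
      rw [h, mem_bot] at h1
      rw [h1, orderOf_one] at hx
      exact hs.one_lt.ne hx
    · intro a _
      have h1 : a ∈ Y := by rw [h]; exact mem_top _
      exact h1
  · right
    obtain ⟨T, _, m, hTf, hT, hm0, ⟨e⟩⟩ := exists_pi hc
    have hTc : ¬ ∀ a b : T, a * b = b * a := by
      intro h
      apply hcomm
      intro a b
      apply e.injective
      rw [map_mul, map_mul]
      funext i
      exact h _ _
    have hTs : ¬ Group.IsSolvable T := by
      intro hs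
      apply hTc
      intro a b
      exact IsSimpleGroup.comm_iff_isSolvable.2 hs a b
    have h60 : 60 ≤ Nat.card T := Cfsg.Agent.H168.NoSolv.sixty_le hTs
    have hcard : Nat.card X = Nat.card T ^ m := by
      rw [Nat.card_congr e.toEquiv, Nat.card_fun, Nat.card_eq_fintype_card (α := Fin m), Fintype.card_fin]
    rcases Nat.lt_or_ge m 2 with hm2 | hm2
    · left
      have hm1 : m = 1 := by omega
      subst hm1
      have e1 : X ≃* T := e.trans (MulEquiv.piUnique fun _ : Fin 1 => T)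
      refine ⟨e1.isSimpleGroup, fun h => hTs ?_⟩
      exact Group.isSolvable_of_isSolvable_injective (f := e1.symm.toMonoidHom) e1.symm.injective
    right
    have hm : m ≤ Nat.card T ^ j := by
      by_contra hlt
      push Not at hlt
      have h2 : 60 ^ j ≤ m := (Nat.pow_le_pow_left h60 j).trans hlt.le
      have h1 : 60 ^ 60 ^ j ≤ Nat.card T ^ m :=
        (Nat.pow_le_pow_left h60 _).trans (Nat.pow_le_pow_right (by omega) h2)
      omega
    obtain ⟨a, b, hab⟩ := hg T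
    obtain ⟨f, hf⟩ := exists_gen_pi hTc hab hm
    refine ⟨?_, ?_, ?_, _, closure_range_of_equiv e hf⟩
    · obtain ⟨s, hs, hs5, hsd⟩ := exists_prime_ge_five hTs
      refine ⟨s, hs, hs5, ?_⟩
      rw [hcard]
      exact (pow_dvd_pow_of_dvd hsd 2).trans (pow_dvd_pow _ hm2)
    · rw [hcard]
      calc 3600 = 60 ^ 2 := by norm_num
        _ ≤ Nat.card T ^ 2 := Nat.pow_le_pow_left h60 2
        _ ≤ Nat.card T ^ m := Nat.pow_le_pow_right (by omega) hm2
    · rcases hc (center X) inferInstance with h1 | h1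
      · exact h1
      · exfalso
        apply hcomm
        intro a b
        have h2 : b ∈ center X := by rw [h1]; exact mem_top _
        exact mem_center_iff.1 h2 a

/-- `∑_{s ∣ n, s ≠ p} gal s (v_s n)` -/
def galSumNe (p n : ℕ) : ℕ := ∑ s ∈ n.primeFactors.erase p, gal s (n.factorization s)

/-- the elementary abelian `s`-subgroups `≠ 1` of `B`, `s ≠ p` prime, fall into at most `C` classes -/
def ClsLe (p C : ℕ) (B : Type*) [Group B] : Prop := ∃ 𝓔 : Set (Subgroup B), 𝓔.ncard ≤ C ∧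
  ∀ (X : Subgroup B) (s : ℕ), s.Prime → s ≠ p → ElAb s X → X ≠ ⊥ →
    ∃ E ∈ 𝓔, ∃ g : B, X = E.map (MulAut.conj g).toMonoidHom

omit [Finite B] in
theorem ClsLe.mono {p C C' : ℕ} (h : ClsLe p C B) (hC : C ≤ C') : ClsLe p C' B := by
  obtain ⟨𝓔, h1, h2⟩ := h
  exact ⟨𝓔, h1.trans hC, h2⟩

/-- by Sylow's theorem -/
theorem clsLe_gal (p : ℕ) : ClsLe p (galSumNe p (Nat.card B)) B := by
  classical
  have key : ∀ s : ℕ, s.Prime → ∃ 𝓔 : Set (Subgroup B), 𝓔.ncard ≤ gal s ((Nat.card B).factorization s) ∧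
      ∀ X : Subgroup B, ElAb s X → X ≠ ⊥ → ∃ E ∈ 𝓔, ∃ g : B, X = E.map (MulAut.conj g).toMonoidHom := by
    intro s hs
    have : Fact s.Prime := ⟨hs⟩
    let P : Sylow s B := default
    have hP : Nat.card (P : Subgroup B) = s ^ (Nat.card B).factorization s := P.card_eq_multiplicity
    refine ⟨{E : Subgroup B | E ≤ (P : Subgroup B) ∧ ElAb s E ∧ E ≠ ⊥}, ncard_elab_le hs hP, ?_⟩
    rintro X h1 h2
    have hps : IsPGroup s X := by
      rintro ⟨y, hy⟩
      refine ⟨1, Subtype.ext ?_⟩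
      rw [pow_one]
      exact h1.exp y hy
    obtain ⟨R, hR⟩ := hps.exists_le_sylow
    obtain ⟨g, hg⟩ := MulAction.exists_smul_eq B R P
    refine ⟨X.map (MulAut.conj g).toMonoidHom, ⟨?_, ⟨?_, ?_⟩, ?_⟩, g⁻¹, ?_⟩
    · rw [← hg, Sylow.coe_subgroup_smul]
      rintro _ ⟨x, hx, rfl⟩
      exact Subgroup.smul_mem_pointwise_smul _ _ _ (hR hx)
    · rintro _ ⟨a, ha, rfl⟩ _ ⟨b, hb, rfl⟩
      rw [← map_mul, ← map_mul, h1.comm a ha b hb]
    · rintro _ ⟨a, ha, rfl⟩
      rw [← map_pow, h1.exp a ha, map_one]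
    · intro e
      rw [Subgroup.map_eq_bot_iff_of_injective _ (MulAut.conj g).injective] at e
      exact h2 e
    · rw [Subgroup.map_map]
      conv_lhs => rw [← Subgroup.map_id X]
      congr 1
      ext y
      show y = g⁻¹ * (g * y * g⁻¹) * g⁻¹⁻¹
      group
  choose! 𝓔 h1 h2 using key
  refine ⟨⋃ s ∈ (Nat.card B).primeFactors.erase p, 𝓔 s, ?_, ?_⟩
  · have hun : ∀ I : Finset ℕ, (⋃ s ∈ I, 𝓔 s).ncard ≤ ∑ s ∈ I, (𝓔 s).ncard := by
      intro I
      induction I using Finset.induction_on with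
      | empty => simp
      | insert j I hj ih =>
        rw [Finset.sum_insert hj, Finset.set_biUnion_insert]
        exact (Set.ncard_union_le _ _).trans (Nat.add_le_add_left ih _)
    exact (hun _).trans (Finset.sum_le_sum fun s hs =>
      h1 s (Nat.prime_of_mem_primeFactors (Finset.mem_of_mem_erase hs)))
  · intro X s hs hsp hel hne
    obtain ⟨E, hE, g, hg⟩ := h2 s hs X hel hne
    refine ⟨E, ?_, g, hg⟩
    simp only [Set.mem_iUnion]
    refine ⟨s, Finset.mem_erase.2 ⟨hsp, Nat.mem_primeFactors.2 ⟨hs, ?_, Nat.card_pos.ne'⟩⟩, hE⟩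
    obtain ⟨y, hy, hy1⟩ : ∃ y ∈ X, y ≠ 1 := by
      by_contra hcon
      push Not at hcon
      exact hne ((Subgroup.eq_bot_iff_forall _).2 hcon)
    have : Fact s.Prime := ⟨hs⟩
    have h3 : orderOf y = s := orderOf_eq_prime (hel.exp y hy) hy1
    rw [← h3]
    exact _root_.orderOf_dvd_natCard y

/-- **Counting theorem**, the prime `p` excluded. -/
theorem ncard_np_le (hg : TwoGen.{u}) {j : ℕ} (hB : Nat.card B < 60 ^ 60 ^ j) {p C : ℕ} (hC : ClsLe p C B) {E : ℕ}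
    (hE : (∃ s : ℕ, s.Prime ∧ 5 ≤ s ∧ s ^ 2 ∣ Nat.card B) → Nat.card B ^ (2 + j) / 3600 ≤ E)
    {𝓜 : Set (Subgroup B)} {c : ℕ} (hc : ∀ M ∈ 𝓜, M.index ≤ c) (hnt : ∀ M ∈ 𝓜, M ≠ ⊥)
    (hch : ∀ M ∈ 𝓜, ∀ K : Subgroup M, K.Characteristic → K ≠ ⊥ → ∀ b : B,
      (∀ k ∈ K.map M.subtype, b * k * b⁻¹ ∈ K.map M.subtype) → b ∈ M)
    (hnp : ∀ M ∈ 𝓜, ∀ K : Subgroup M, K.Characteristic → K ≠ ⊥ → ¬ ElAb p K) :
    𝓜.ncard ≤ C * c + Nat.card B ^ 2 / 60 + E := by
  classical
  -- the minimal characteristic subgroup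
  have key : ∀ M ∈ 𝓜, ∃ X : Subgroup B, normalizer (X : Set B) = M ∧
      ((∃ s : ℕ, s.Prime ∧ s ≠ p ∧ ElAb s X ∧ X ≠ ⊥) ∨
        ((IsSimpleGroup X ∧ ¬ Group.IsSolvable X) ∧ ∃ a b : X, _root_.Subgroup.closure ({a, b} : Set X) = ⊤) ∨
        ((∃ s : ℕ, s.Prime ∧ 5 ≤ s ∧ s ^ 2 ∣ Nat.card B) ∧ 3600 ≤ Nat.card X ∧ center X = ⊥ ∧
          ∃ f : Fin (2 + j) → X, closure (Set.range f) = ⊤)) := by
    intro M hM
    have hMn : Nontrivial M := (Subgroup.nontrivial_iff_ne_bot M).2 (hnt M hM)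
    obtain ⟨Y, hY, hYne, hYmin⟩ := exists_min_char (B := M)
    have hYn : Nontrivial Y := (Subgroup.nontrivial_iff_ne_bot Y).2 hYne
    have hYc : ∀ Z : Subgroup Y, Z.Characteristic → Z = ⊥ ∨ Z = ⊤ := by
      intro Z hZ
      by_cases hZb : Z = ⊥
      · exact Or.inl hZb
      right
      have h1 := hYmin (Z.map Y.subtype) char_trans (by
        rintro _ ⟨z, _, rfl⟩
        exact z.2) (by
        intro e
        rw [Subgroup.map_eq_bot_iff_of_injective _ Y.subtype_injective] at e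
        exact hZb e)
      rw [Subgroup.eq_top_iff']
      intro y
      have h2 : (y : M) ∈ Z.map Y.subtype := by rw [h1]; exact y.2
      obtain ⟨z, hz, e⟩ := h2
      have : z = y := Subtype.ext e
      rw [← this]
      exact hz
    set! X : Subgroup B := Y.map M.subtype with hX
    have hcard : Nat.card X = Nat.card Y :=
      (Nat.card_congr (Y.equivMapOfInjective _ M.subtype_injective).toEquiv).symm
    have e : Y ≃* X := Y.equivMapOfInjective _ M.subtype_injective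
    have hXB : Nat.card Y ∣ Nat.card B := by
      rw [← hcard]
      exact Subgroup.card_subgroup_dvd_card X
    have hXne : X ≠ ⊥ := by
      intro e
      rw [hX, Subgroup.map_eq_bot_iff_of_injective _ M.subtype_injective] at e
      exact hYne e
    refine ⟨X, ?_, ?_⟩
    · apply le_antisymm
      · intro b hb
        exact hch M hM Y hY hYne b fun k hk => (mem_normalizer_iff.1 hb k).1 hk
      · intro m hm
        have hn : Y.Normal := inferInstance
        rw [mem_normalizer_iff]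
        have key : ∀ m ∈ M, ∀ k ∈ X, m * k * m⁻¹ ∈ X := by
          rintro m hm _ ⟨k, hk, rfl⟩
          exact ⟨_, hn.conj_mem k hk ⟨m, hm⟩, rfl⟩
        intro k
        refine ⟨key m hm k, fun h => ?_⟩
        have := key m⁻¹ (M.inv_mem hm) _ h
        have e : m⁻¹ * (m * k * m⁻¹) * m⁻¹⁻¹ = k := by group
        rwa [e] at this
    · have hYB : Nat.card Y < 60 ^ 60 ^ j := (Nat.le_of_dvd Nat.card_pos hXB).trans_lt hB
      rcases char_simple_j hg hYc hYB with ⟨s, hs, hsd, hel⟩ | ⟨h1, h2⟩ | ⟨⟨s, hs, hs5, hsd⟩, h1, h2, f, h3⟩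
      · left
        have hsp : s ≠ p := by
          rintro rfl
          refine hnp M hM Y hY hYne ⟨fun a ha b hb => ?_, fun a ha => ?_⟩
          · exact Subtype.ext_iff.1 (hel.comm ⟨a, ha⟩ (mem_top _) ⟨b, hb⟩ (mem_top _))
          · exact Subtype.ext_iff.1 (hel.exp ⟨a, ha⟩ (mem_top _))
        refine ⟨s, hs, hsp, ⟨?_, ?_⟩, hXne⟩
        · rintro _ ⟨a, ha, rfl⟩ _ ⟨b, hb, rfl⟩
          have := hel.comm ⟨a, ha⟩ (mem_top _) ⟨b, hb⟩ (mem_top _)
          have h1 : a * b = b * a := Subtype.ext_iff.1 this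
          rw [← map_mul, ← map_mul, h1]
        · rintro _ ⟨a, ha, rfl⟩
          have := hel.exp ⟨a, ha⟩ (mem_top _)
          have h1 : a ^ s = 1 := Subtype.ext_iff.1 this
          rw [← map_pow, h1, map_one]
      · right; left
        have hXs : IsSimpleGroup X := e.symm.isSimpleGroup
        refine ⟨⟨hXs, fun h => h2 ?_⟩, hg X⟩
        exact Group.isSolvable_of_isSolvable_injective (f := e.toMonoidHom) e.injective
      · right; right
        refine ⟨⟨s, hs, hs5, hsd.trans hXB⟩, by rw [hcard]; exact h1, ?_, _, closure_range_of_equiv e.symm h3⟩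
        rw [Subgroup.eq_bot_iff_forall]
        intro x hx
        have h4 : e.symm x ∈ center Y := by
          rw [mem_center_iff] at hx ⊢
          intro y
          apply e.injective
          rw [map_mul, map_mul, MulEquiv.apply_symm_apply]
          exact hx _
        rw [h2, mem_bot] at h4
        exact (MulEquiv.map_eq_one_iff e.symm).1 h4
  choose! f hf1 hf2 using key
  have hinj : Set.InjOn f 𝓜 := by
    intro M hM N hN e
    rw [← hf1 M hM, ← hf1 N hN, e]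
  rw [← hinj.ncard_image]
  have hsub : f '' 𝓜 ⊆ ({X : Subgroup B | (∃ s : ℕ, s.Prime ∧ s ≠ p ∧ ElAb s X ∧ X ≠ ⊥) ∧
      (normalizer (X : Set B)).index ≤ c} ∪
      {X : Subgroup B | (IsSimpleGroup X ∧ ¬ Group.IsSolvable X) ∧ ∃ a b : X, _root_.Subgroup.closure ({a, b} : Set X) = ⊤}) ∪
      {X : Subgroup B | (∃ s : ℕ, s.Prime ∧ 5 ≤ s ∧ s ^ 2 ∣ Nat.card B) ∧ 3600 ≤ Nat.card X ∧ center X = ⊥ ∧
        ∃ f : Fin (2 + j) → X, _root_.Subgroup.closure (Set.range f) = ⊤} := by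
    rintro _ ⟨M, hM, rfl⟩
    rcases hf2 M hM with h1 | h | h
    · left; left
      exact ⟨h1, by rw [hf1 M hM]; exact hc M hM⟩
    · left; right
      exact h
    · right
      exact h
  refine (Set.ncard_le_ncard hsub (Set.toFinite _)).trans ((Set.ncard_union_le _ _).trans (Nat.add_le_add
    ((Set.ncard_union_le _ _).trans (Nat.add_le_add ?_ ?_)) ?_))
  · obtain ⟨𝓔, h1, h2⟩ := hC
    refine (ncard_le_mul (𝓔 := 𝓔) ?_ (fun X hX => hX.2)).trans (Nat.mul_le_mul_right _ h1)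
    rintro X ⟨⟨s, hs, hsp, hel, hne⟩, -⟩
    exact h2 X s hs hsp hel hne
  · exact ncard_simple_le (fun X hX => hX.1) (fun X hX => hX.2)
  · by_cases h5 : ∃ s : ℕ, s.Prime ∧ 5 ≤ s ∧ s ^ 2 ∣ Nat.card B
    · exact (ncard_dgen_le (by norm_num) (fun X hX => hX.2)).trans (hE h5)
    · have h0 : {X : Subgroup B | (∃ s : ℕ, s.Prime ∧ 5 ≤ s ∧ s ^ 2 ∣ Nat.card B) ∧ 3600 ≤ Nat.card X ∧
          center X = ⊥ ∧ ∃ f : Fin (2 + j) → X, _root_.Subgroup.closure (Set.range f) = ⊤} = ∅ := by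
        rw [Set.eq_empty_iff_forall_notMem]
        intro X hX
        exact h5 hX.1
      rw [h0, Set.ncard_empty]
      exact Nat.zero_le _

end count

/-- `p`-groups of order at most `p ^ a` are generated by `a` elements -/
theorem exists_gen_pgroup {p : ℕ} [Fact p.Prime] {R : Type*} [Group R] [Finite R] (hR : IsPGroup p R) {a : ℕ}
    (ha : Nat.card R ≤ p ^ a) : ∃ f : Fin a → R, _root_.Subgroup.closure (Set.range f) = ⊤ := by
  have hp : p.Prime := Fact.out
  have key : ∀ k, ∃ f : Fin k → R, _root_.Subgroup.closure (Set.range f) = ⊤ ∨ p ^ k ≤ Nat.card (closure (Set.range f)) := by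
    intro k
    induction k with
    | zero => exact ⟨Fin.elim0, Or.inr (by rw [pow_zero]; exact Nat.card_pos)⟩
    | succ k ih =>
      obtain ⟨f, hf⟩ := ih
      by_cases htop : _root_.Subgroup.closure (Set.range f) = ⊤
      · refine ⟨Fin.snoc f 1, Or.inl ?_⟩
        rw [eq_top_iff, ← htop]
        apply Subgroup.closure_mono
        rintro _ ⟨i, rfl⟩
        exact ⟨i.castSucc, by rw [Fin.snoc_castSucc]⟩
      obtain ⟨x, hx⟩ : ∃ x, x ∉ _root_.Subgroup.closure (Set.range f) := by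
        by_contra hcon
        push Not at hcon
        exact htop ((Subgroup.eq_top_iff' _).2 hcon)
      refine ⟨Fin.snoc f x, Or.inr ?_⟩
      have hle : _root_.Subgroup.closure (Set.range f) ≤ closure (Set.range (Fin.snoc f x : Fin (k + 1) → R)) := by
        apply Subgroup.closure_mono
        rintro _ ⟨i, rfl⟩
        exact ⟨i.castSucc, by rw [Fin.snoc_castSucc]⟩
      have hxm : x ∈ closure (Set.range (Fin.snoc f x : Fin (k + 1) → R)) :=
        subset_closure ⟨Fin.last k, by rw [Fin.snoc_last]⟩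
      have hne : closure (Set.range f) ≠ closure (Set.range (Fin.snoc f x : Fin (k + 1) → R)) := by
        intro e
        rw [← e] at hxm
        exact hx hxm
      obtain ⟨m, hm⟩ := (IsPGroup.iff_card).1 (hR.to_subgroup (closure (Set.range f)))
      obtain ⟨m', hm'⟩ := (IsPGroup.iff_card).1 (hR.to_subgroup (closure (Set.range (Fin.snoc f x : Fin (k + 1) → R))))
      have h1 := hf.resolve_left htop
      rw [hm] at h1
      have hkm : k ≤ m := (Nat.pow_le_pow_iff_right hp.one_lt).1 h1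
      have hlt : m < m' := by
        by_contra hge
        push Not at hge
        apply hne
        apply Subgroup.eq_of_le_of_card_ge hle
        rw [hm, hm']
        exact Nat.pow_le_pow_right hp.pos hge
      rw [hm']
      exact Nat.pow_le_pow_right hp.pos (by omega)
  obtain ⟨f, hf⟩ := key a
  refine ⟨f, ?_⟩
  rcases hf with hf | hf
  · exact hf
  · apply Subgroup.eq_top_of_card_eq
    have h1 := Subgroup.card_le_card_group (_root_.Subgroup.closure (Set.range f))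
    omega

/-- the number of `p`-subgroups of order at most `p ^ a` -/
theorem ncard_pgroup_le {B : Type*} [Group B] [Finite B] {p : ℕ} [Fact p.Prime] {a : ℕ} {𝒮 : Set (Subgroup B)}
    (h : ∀ X ∈ 𝒮, IsPGroup p X ∧ Nat.card X ≤ p ^ a) : 𝒮.ncard ≤ Nat.card B ^ a := by
  classical
  have h1 : ∀ X ∈ 𝒮, ∃ f : Fin a → B, _root_.Subgroup.closure (Set.range f) = X := by
    intro X hX
    obtain ⟨f, hf⟩ := exists_gen_pgroup (h X hX).1 (h X hX).2
    refine ⟨fun i => f i, ?_⟩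
    have h2 := congrArg (Subgroup.map X.subtype) hf
    rw [MonoidHom.map_closure, ← Set.range_comp, ← MonoidHom.range_eq_map, X.range_subtype] at h2
    exact h2
  choose! f hf using h1
  have hinj : Set.InjOn f 𝒮 := by
    intro X hX Y hY e
    rw [← hf X hX, ← hf Y hY, e]
  have h2 := Set.ncard_le_ncard (Set.subset_univ (f '' 𝒮)) (Set.toFinite _)
  rw [hinj.ncard_image, Set.ncard_univ, Nat.card_fun, Nat.card_eq_fintype_card (α := Fin a), Fintype.card_fin] at h2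
  exact h2

end Cfsg.Agent.H12.EP.BT
end

-- part: H12/EP/BT
section
/-!
# S3499-VII-BT-COUNT (helper12), part 3: own characteristic

`LieSoc p A N` : `N` is the simple nonabelian socle of `A` and has canonical parabolic subgroups for `p` (Borel–Tits).

* `par_M0` : if `M0 = A ⊓ cj x A` has a `Γ_x`-invariant `p`-subgroup meeting `N`, then `M0 ⊓ N` is a canonical parabolic;
* `EPT.ncard_own` : `#M0 ≤ |A| + |A| ^ a + C * (|A| / 6) + |A| ^ 2 / 60 + E`, `E = |A| ^ (2 + j) / 3600` or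
  `E = 0` if `s ^ 2 ∤ |A|` for all primes `s ≥ 5` (`p ^ (a + 1) |N| ∤ |A|`, `|A| < 60 ^ 60 ^ j`,
  `ClsLe p C A`: at most `C` classes of elementary abelian `s`-subgroups, `s ≠ p`);
* `EPT.index_own` : the bound for the index.
-/

set_option autoImplicit false
set_option linter.unusedSectionVars false

namespace Cfsg.Agent.H12.EP.BT

open Subgroup Cfsg.Agent.H284 Cfsg.Agent.H59.EP

universe u

/-- `N` is the simple nonabelian socle of `A`, with canonical parabolic subgroups. -/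
structure LieSoc (p : ℕ) {Q : Type*} [Group Q] (A N : Subgroup Q) : Prop where
  le : N ≤ A
  nor : ∀ a ∈ A, ∀ x ∈ N, a * x * a⁻¹ ∈ N
  cen : ∀ a ∈ A, (∀ x ∈ N, a * x = x * a) → a = 1
  simple : IsSimpleGroup N
  nab : ¬ ∀ a ∈ N, ∀ b ∈ N, a * b = b * a
  pars : ∃ 𝓟 : Set (Subgroup N), Pars p N 𝓟

variable {Q : Type u} [Group Q] [Finite Q] {A N : Subgroup Q} {Γ : Subgroup (MulAut Q)} {p : ℕ}

namespace LieSoc

/-- a simple socle is invariant -/
theorem inv (hS : LieSoc p A N) (h : EPT A Γ) : ∀ σ ∈ Γ, ∀ x ∈ N, σ x ∈ N := by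
  have := hS.simple
  intro σ hσ
  have hσ' : σ⁻¹ ∈ Γ := inv_mem hσ
  have hN'A : N.map σ.toMonoidHom ≤ A := by
    rintro _ ⟨x, hx, rfl⟩
    exact (h.inv σ hσ x).2 (hS.le hx)
  have hN'n : ∀ a ∈ A, ∀ y ∈ N.map σ.toMonoidHom, a * y * a⁻¹ ∈ N.map σ.toMonoidHom := by
    rintro a ha _ ⟨x, hx, rfl⟩
    refine ⟨σ⁻¹ a * x * (σ⁻¹ a)⁻¹, hS.nor _ ((h.inv _ hσ' a).2 ha) x hx, ?_⟩
    show σ (σ⁻¹ a * x * (σ⁻¹ a)⁻¹) = a * σ x * a⁻¹
    rw [map_mul, map_mul, map_inv, MulAut.apply_inv_self]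
  have hnor : ((N.map σ.toMonoidHom).subgroupOf N).Normal := by
    constructor
    intro y hy g
    rw [mem_subgroupOf] at hy ⊢
    exact hN'n g (hS.le g.2) y hy
  rcases hnor.eq_bot_or_eq_top with h1 | h1
  · exfalso
    have hdis : ∀ y : Q, y ∈ N → y ∈ N.map σ.toMonoidHom → y = 1 := by
      intro y hy hy'
      have : (⟨y, hy⟩ : N) ∈ (N.map σ.toMonoidHom).subgroupOf N := mem_subgroupOf.2 hy'
      rw [h1, mem_bot] at this
      exact Subtype.ext_iff.1 this
    obtain ⟨x, hx⟩ := exists_ne (1 : N)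
    apply hx
    have h2 : σ x = 1 := by
      apply hS.cen _ (hN'A ⟨x, x.2, rfl⟩)
      intro z hz
      have h3 : σ x * z * (σ x)⁻¹ * z⁻¹ = 1 := by
        apply hdis
        · exact N.mul_mem (hS.nor _ (hN'A ⟨x, x.2, rfl⟩) z hz) (N.inv_mem hz)
        · have h4 : σ x * z * (σ x)⁻¹ * z⁻¹ = σ x * (z * (σ x)⁻¹ * z⁻¹) := by group
          rw [h4]
          exact mul_mem ⟨x, x.2, rfl⟩ (hN'n z (hS.le hz) _ (inv_mem ⟨x, x.2, rfl⟩))
      show σ x * z = z * σ x
      have h5 : σ x * z = σ x * z * (σ x)⁻¹ * z⁻¹ * (z * σ x) := by group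
      rw [h5, h3, one_mul]
    apply Subtype.ext
    rw [← map_one σ] at h2
    exact σ.injective h2
  · have h2 : N ≤ N.map σ.toMonoidHom := by
      intro x hx
      have : (⟨x, hx⟩ : N) ∈ (N.map σ.toMonoidHom).subgroupOf N := by rw [h1]; exact mem_top _
      exact mem_subgroupOf.1 this
    have h3 : N = N.map σ.toMonoidHom :=
      Subgroup.eq_of_le_of_card_ge h2 (Nat.card_le_card_of_surjective
        (fun x : N => (⟨σ x, x, x.2, rfl⟩ : N.map σ.toMonoidHom)) (by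
          rintro ⟨_, x, hx, rfl⟩
          exact ⟨⟨x, hx⟩, rfl⟩))
    intro x hx
    rw [h3]
    exact ⟨x, hx, rfl⟩

/-- **Borel–Tits** -/
theorem par_M0 (hS : LieSoc p A N) (h : EPT A Γ) {𝓟 : Set (Subgroup N)} (hP : Pars p N 𝓟) {x : Q} (hx : x ∉ A)
    {R : Subgroup Q} (hR : R ≤ A ⊓ cj x A) (hRn : ∀ σ ∈ Γ, x⁻¹ * σ x ∈ A → ∀ k ∈ R, σ k ∈ R) (hRp : IsPGroup p R)
    (hRN : R ⊓ N ≠ ⊥) : ∃ P ∈ 𝓟, A ⊓ cj x A ⊓ N = P.map N.subtype := by
  have hsim := hS.simple
  have hinv := hS.inv h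
  -- `M0` acts by conjugation inside `Γ_x`
  have hconj : ∀ m ∈ A ⊓ cj x A, MulAut.conj m ∈ Γ ∧ x⁻¹ * MulAut.conj m x ∈ A := fun m hm =>
    ⟨(h.conj m).2 (mem_inf.1 hm).1, (h.conj_stab (mem_inf.1 hm).1).2 (mem_inf.1 hm).2⟩
  obtain ⟨P, hP𝓟, hKP, hPφ⟩ := hP.exists_mem ((A ⊓ cj x A).subgroupOf N) (R.subgroupOf N)
    (fun y hy => hR hy) (by
      rintro ⟨k, hkN⟩ hk ⟨v, hvN⟩ hv
      have h1 := hconj k hk
      exact hRn _ h1.1 h1.2 v hv) (hRp.comap_subtype) (by
      rw [Ne, Subgroup.subgroupOf_eq_bot, disjoint_iff]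
      exact hRN)
  refine ⟨P, hP𝓟, ?_⟩
  -- `Γ_x` fixes `P`
  have hPx : ∀ σ ∈ Γ, x⁻¹ * σ x ∈ A → ∀ y ∈ P.map N.subtype, σ y ∈ P.map N.subtype := by
    intro σ hσ hσx
    let f : N →* N := (σ.toMonoidHom.comp N.subtype).codRestrict N (fun y => hinv σ hσ y y.2)
    have hf : Function.Injective f := by
      intro y z e
      have e' : σ y = σ z := Subtype.ext_iff.1 e
      exact Subtype.ext (σ.injective e')
    let τ : MulAut N := MulEquiv.ofBijective f (Finite.injective_iff_bijective.1 hf)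
    have hτ : ∀ y : N, ((τ y : N) : Q) = σ y := fun y => rfl
    rintro _ ⟨y, hy, rfl⟩
    refine ⟨τ y, hPφ τ ?_ y hy, hτ y⟩
    intro k hk
    rw [mem_subgroupOf, hτ]
    exact h.stab_M0 hσ hσx hk
  let L : Subgroup (MulAut Q) :=
    { carrier := {σ | σ ∈ Γ ∧ (P.map N.subtype).map σ.toMonoidHom = P.map N.subtype}
      one_mem' := ⟨one_mem _, Subgroup.map_id _⟩
      mul_mem' := by
        rintro a b ⟨ha, ha'⟩ ⟨hb, hb'⟩
        refine ⟨mul_mem ha hb, ?_⟩
        have e : (a * b).toMonoidHom = a.toMonoidHom.comp b.toMonoidHom := rfl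
        rw [e, ← Subgroup.map_map, hb', ha']
      inv_mem' := by
        rintro a ⟨ha, ha'⟩
        refine ⟨inv_mem ha, ?_⟩
        conv_lhs => rw [← ha']
        rw [Subgroup.map_map]
        have e : (a⁻¹).toMonoidHom.comp a.toMonoidHom = MonoidHom.id Q := by
          ext y
          exact MulAut.inv_apply_self Q a y
        rw [e, Subgroup.map_id] }
  have hLmem : ∀ σ ∈ Γ, (∀ y ∈ P.map N.subtype, σ y ∈ P.map N.subtype) → σ ∈ L := by
    intro σ hσ h1
    refine ⟨hσ, ?_⟩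
    have hle : (P.map N.subtype).map σ.toMonoidHom ≤ P.map N.subtype := by
      rintro _ ⟨y, hy, rfl⟩
      exact h1 y hy
    apply Subgroup.eq_of_le_of_card_ge hle
    exact (Nat.card_congr ((P.map N.subtype).equivMapOfInjective σ.toMonoidHom σ.injective).toEquiv).le
  have hPbot : P.map N.subtype ≠ ⊥ := by
    intro e
    apply hRN
    rw [eq_bot_iff, ← e]
    intro y hy
    exact ⟨⟨y, (mem_inf.1 hy).2⟩, hKP (hR (mem_inf.1 hy).1), rfl⟩
  have hLx : ∀ σ ∈ L, x⁻¹ * σ x ∈ A := by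
    refine (h.two x hx L (fun σ hσ => hσ.1) (fun σ hσ hσx => hLmem σ hσ (hPx σ hσ hσx))).resolve_left fun hLΓ => ?_
    -- `P` would be normal in `N`
    have hPn : P.Normal := by
      refine ⟨fun y hy g => ?_⟩
      have h1 : MulAut.conj (g : Q) ∈ L := by
        rw [hLΓ]
        exact (h.conj _).2 (hS.le g.2)
      have h2 : (g : Q) * y * (g : Q)⁻¹ ∈ P.map N.subtype := by
        rw [← h1.2]
        exact ⟨y, ⟨y, hy, rfl⟩, rfl⟩
      obtain ⟨z, hz, e⟩ := h2
      have : z = g * y * g⁻¹ := Subtype.ext e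
      rwa [← this]
    rcases hPn.eq_bot_or_eq_top with h3 | h3
    · rw [h3, Subgroup.map_bot] at hPbot
      exact hPbot rfl
    · exact hP.ne_top P hP𝓟 h3
  apply le_antisymm
  · rintro y ⟨hy1, hy2⟩
    exact ⟨⟨y, hy2⟩, hKP hy1, rfl⟩
  · rintro _ ⟨y, hy, rfl⟩
    have hyA : (y : Q) ∈ A := hS.le y.2
    have h1 : MulAut.conj (y : Q) ∈ L := by
      apply hLmem _ ((h.conj _).2 hyA)
      rintro _ ⟨z, hz, rfl⟩
      exact ⟨y * z * y⁻¹, P.mul_mem (P.mul_mem hy hz) (P.inv_mem hy), rfl⟩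
    exact ⟨⟨hyA, (h.conj_stab hyA).1 (hLx _ h1)⟩, y.2⟩

/-- `M0` is determined by `M0 ⊓ N` -/
theorem M0_inj (hS : LieSoc p A N) (h : EPT A Γ) {x y : Q} (hx : x ∉ A) (hy : y ∉ A)
    (e : A ⊓ cj x A ⊓ N = A ⊓ cj y A ⊓ N) (hne : A ⊓ cj x A ⊓ N ≠ ⊥) : A ⊓ cj x A = A ⊓ cj y A := by
  have key : ∀ x y : Q, y ∉ A → A ⊓ cj x A ⊓ N = A ⊓ cj y A ⊓ N → A ⊓ cj y A ⊓ N ≠ ⊥ →
      A ⊓ cj x A ≤ A ⊓ cj y A := by
    intro x y hy e hne a ha
    refine ⟨(mem_inf.1 ha).1, ?_⟩
    show a ∈ cj y A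
    rw [← h.conj_stab (mem_inf.1 ha).1]
    refine h.norm y hy (A ⊓ cj y A ⊓ N) inf_le_left ?_ hne _ ((h.conj a).2 (mem_inf.1 ha).1) ?_
    · intro σ hσ hσy k hk
      exact ⟨h.stab_M0 hσ hσy (mem_inf.1 hk).1, hS.inv h σ hσ k (mem_inf.1 hk).2⟩
    · intro k hk
      rw [← e] at hk ⊢
      exact ⟨(A ⊓ cj x A).mul_mem ((A ⊓ cj x A).mul_mem ha (mem_inf.1 hk).1) ((A ⊓ cj x A).inv_mem ha),
        hS.nor a (mem_inf.1 ha).1 k (mem_inf.1 hk).2⟩
  exact le_antisymm (key x y hy e (e ▸ hne)) (key y x hx e.symm hne)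

/-- the number of `M0` of parabolic type -/
theorem ncard_par (hS : LieSoc p A N) (h : EPT A Γ) :
    {M : Subgroup Q | ∃ x, x ∉ A ∧ M = A ⊓ cj x A ∧ ∃ R : Subgroup Q, R ≤ A ⊓ cj x A ∧
      (∀ σ ∈ Γ, x⁻¹ * σ x ∈ A → ∀ k ∈ R, σ k ∈ R) ∧ IsPGroup p R ∧ R ⊓ N ≠ ⊥}.ncard ≤ Nat.card A := by
  obtain ⟨𝓟, hP⟩ := hS.pars
  have h1 : Nat.card N ≤ Nat.card A := Subgroup.card_le_of_le hS.le
  refine le_trans ?_ (hP.card_le.trans h1)
  refine Set.ncard_le_ncard_of_injOn (fun M => (M ⊓ N).subgroupOf N) ?_ ?_ (Set.toFinite _)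
  · rintro _ ⟨x, hx, rfl, R, hR, hRn, hRp, hRN⟩
    obtain ⟨P, hP1, hP2⟩ := hS.par_M0 h hP hx hR hRn hRp hRN
    show (A ⊓ cj x A ⊓ N).subgroupOf N ∈ 𝓟
    rw [hP2, Subgroup.subgroupOf, Subgroup.comap_map_eq_self_of_injective N.subtype_injective]
    exact hP1
  · rintro _ ⟨x, hx, rfl, R, hR, hRn, hRp, hRN⟩ _ ⟨y, hy, rfl, -⟩ e
    have e1 := congrArg (Subgroup.map N.subtype) e
    simp only [Subgroup.subgroupOf_map_subtype] at e1
    rw [inf_eq_left.2 (inf_le_right : A ⊓ cj x A ⊓ N ≤ N), inf_eq_left.2 (inf_le_right : A ⊓ cj y A ⊓ N ≤ N)] at e1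
    refine hS.M0_inj h hx hy e1 fun e2 => hRN ?_
    rw [eq_bot_iff, ← e2]
    exact inf_le_inf_right _ hR

/-- the number of `M0` with an invariant `p`-subgroup outside the socle -/
theorem ncard_out [Fact p.Prime] (hS : LieSoc p A N) (h : EPT A Γ) {a : ℕ}
    (ha : ¬ p ^ (a + 1) * Nat.card N ∣ Nat.card A) :
    {M : Subgroup Q | ∃ x, x ∉ A ∧ M = A ⊓ cj x A ∧ ∃ R : Subgroup Q, R ≤ A ⊓ cj x A ∧
      (∀ σ ∈ Γ, x⁻¹ * σ x ∈ A → ∀ k ∈ R, σ k ∈ R) ∧ IsPGroup p R ∧ R ≠ ⊥ ∧ R ⊓ N = ⊥}.ncard ≤ Nat.card A ^ a := by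
  classical
  have hp : p.Prime := Fact.out
  set 𝓜 := {M : Subgroup Q | ∃ x, x ∉ A ∧ M = A ⊓ cj x A ∧ ∃ R : Subgroup Q, R ≤ A ⊓ cj x A ∧
      (∀ σ ∈ Γ, x⁻¹ * σ x ∈ A → ∀ k ∈ R, σ k ∈ R) ∧ IsPGroup p R ∧ R ≠ ⊥ ∧ R ⊓ N = ⊥} with h𝓜
  have key : ∀ M ∈ 𝓜, ∃ X : Subgroup A, (normalizer (X : Set A)).map A.subtype = M ∧ IsPGroup p X ∧
      Nat.card X ≤ p ^ a := by
    rintro _ ⟨x, hx, rfl, R, hR, hRn, hRp, hR1, hRN⟩
    have hRA : R ≤ A := hR.trans inf_le_left
    refine ⟨R.subgroupOf A, ?_, hRp.comap_subtype, ?_⟩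
    · apply le_antisymm
      · rintro _ ⟨b, hb, rfl⟩
        refine ⟨b.2, ?_⟩
        show (b : Q) ∈ cj x A
        rw [← h.conj_stab b.2]
        refine h.norm x hx R hR hRn hR1 _ ((h.conj _).2 b.2) ?_
        intro k hk
        exact (mem_normalizer_iff.1 hb ⟨k, hRA hk⟩).1 hk
      · intro m hm
        have hm' : ∀ m ∈ A ⊓ cj x A, ∀ k ∈ R, m * k * m⁻¹ ∈ R := fun m hm k hk =>
          hRn _ ((h.conj m).2 (mem_inf.1 hm).1) ((h.conj_stab (mem_inf.1 hm).1).2 (mem_inf.1 hm).2) k hk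
        refine ⟨⟨m, (mem_inf.1 hm).1⟩, ?_, rfl⟩
        rw [SetLike.mem_coe, mem_normalizer_iff]
        intro k
        constructor
        · intro hk
          exact hm' m hm k hk
        · intro hk
          have h1 : m⁻¹ * (m * k * m⁻¹) * m⁻¹⁻¹ ∈ R := hm' m⁻¹ ((A ⊓ cj x A).inv_mem hm) _ hk
          show (k : Q) ∈ R
          have e : m⁻¹ * (m * k * m⁻¹) * m⁻¹⁻¹ = (k : Q) := by group
          rwa [e] at h1
    · have hNn : (N.subgroupOf A).Normal := ⟨fun n hn g => hS.nor g g.2 n hn⟩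
      have hinf : R.subgroupOf A ⊓ N.subgroupOf A = ⊥ := by
        rw [Subgroup.eq_bot_iff_forall]
        rintro y ⟨hy1, hy2⟩
        have : (y : Q) ∈ R ⊓ N := ⟨hy1, hy2⟩
        rw [hRN, mem_bot] at this
        exact Subtype.ext this
      have hdvd := card_mul_dvd hinf
      have hcN : Nat.card (N.subgroupOf A) = Nat.card N := Nat.card_congr (Subgroup.subgroupOfEquivOfLe hS.le).toEquiv
      rw [hcN] at hdvd
      obtain ⟨b, hb'⟩ := (IsPGroup.iff_card).1 (hRp.comap_subtype : IsPGroup p (R.subgroupOf A))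
      have hb : Nat.card (R.subgroupOf A) = p ^ b := hb'
      rw [hb] at hdvd ⊢
      apply Nat.pow_le_pow_right hp.pos
      by_contra hlt
      push Not at hlt
      exact ha ((Nat.mul_dvd_mul_right (pow_dvd_pow p (by omega)) _).trans hdvd)
  choose! f hf1 hf2 using key
  have hinj : Set.InjOn f 𝓜 := by
    intro M hM M' hM' e
    rw [← hf1 M hM, ← hf1 M' hM', e]
  rw [← hinj.ncard_image]
  apply ncard_pgroup_le (p := p)
  rintro _ ⟨M, hM, rfl⟩
  exact hf2 M hM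

/-- no abelian normal subgroups -/
theorem no_abelian (hS : LieSoc p A N) : ∀ K : Subgroup Q, K ≤ A → (∀ a ∈ A, ∀ k ∈ K, a * k * a⁻¹ ∈ K) →
    (∀ a ∈ K, ∀ b ∈ K, a * b = b * a) → K = ⊥ :=
  noAb_of_soc hS.le hS.nor hS.simple hS.nab hS.cen

end LieSoc

/-- **the number of two-point stabilisers, own characteristic** -/
theorem EPT.ncard_own [Fact p.Prime] (h : EPT A Γ) (hg : TwoGen.{u}) (hS : LieSoc p A N) {a j : ℕ}
    (ha : ¬ p ^ (a + 1) * Nat.card N ∣ Nat.card A) (hj : Nat.card A < 60 ^ 60 ^ j) {C : ℕ} (hC : ClsLe p C A)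
    {E : ℕ} (hE : (∃ s : ℕ, s.Prime ∧ 5 ≤ s ∧ s ^ 2 ∣ Nat.card A) → Nat.card A ^ (2 + j) / 3600 ≤ E) :
    {M : Subgroup Q | ∃ x, x ∉ A ∧ M = A ⊓ cj x A}.ncard ≤
      Nat.card A + Nat.card A ^ a + (C * (Nat.card A / 6) + Nat.card A ^ 2 / 60 + E) := by
  classical
  set! 𝓟 := {M : Subgroup Q | ∃ x, x ∉ A ∧ M = A ⊓ cj x A ∧ ∃ R : Subgroup Q, R ≤ A ⊓ cj x A ∧
      (∀ σ ∈ Γ, x⁻¹ * σ x ∈ A → ∀ k ∈ R, σ k ∈ R) ∧ IsPGroup p R ∧ R ⊓ N ≠ ⊥} with h𝓟
  set! 𝓞 := {M : Subgroup Q | ∃ x, x ∉ A ∧ M = A ⊓ cj x A ∧ ∃ R : Subgroup Q, R ≤ A ⊓ cj x A ∧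
      (∀ σ ∈ Γ, x⁻¹ * σ x ∈ A → ∀ k ∈ R, σ k ∈ R) ∧ IsPGroup p R ∧ R ≠ ⊥ ∧ R ⊓ N = ⊥} with h𝓞
  set! 𝓡 := {M : Subgroup Q | ∃ x, x ∉ A ∧ M = A ⊓ cj x A ∧ ∀ R : Subgroup Q, R ≤ A ⊓ cj x A →
      (∀ σ ∈ Γ, x⁻¹ * σ x ∈ A → ∀ k ∈ R, σ k ∈ R) → IsPGroup p R → R = ⊥} with h𝓡
  have hcov : {M : Subgroup Q | ∃ x, x ∉ A ∧ M = A ⊓ cj x A} ⊆ 𝓟 ∪ 𝓞 ∪ 𝓡 := by
    rintro _ ⟨x, hx, rfl⟩
    by_cases h1 : ∀ R : Subgroup Q, R ≤ A ⊓ cj x A → (∀ σ ∈ Γ, x⁻¹ * σ x ∈ A → ∀ k ∈ R, σ k ∈ R) → IsPGroup p R →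
        R = ⊥
    · exact Or.inr ⟨x, hx, rfl, h1⟩
    · push Not at h1
      obtain ⟨R, hR, hRn, hRp, hR1⟩ := h1
      by_cases hRN : R ⊓ N = ⊥
      · exact Or.inl (Or.inr ⟨x, hx, rfl, R, hR, hRn, hRp, hR1, hRN⟩)
      · exact Or.inl (Or.inl ⟨x, hx, rfl, R, hR, hRn, hRp, hRN⟩)
  refine (Set.ncard_le_ncard hcov (Set.toFinite _)).trans ((Set.ncard_union_le _ _).trans (Nat.add_le_add
    ((Set.ncard_union_le _ _).trans (Nat.add_le_add (hS.ncard_par h) (hS.ncard_out h ha))) ?_))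
  -- no invariant `p`-subgroups
  set! 𝓜 : Set (Subgroup A) := {M | ∃ x, x ∉ A ∧ A ⊓ cj x A ∈ 𝓡 ∧ M = (A ⊓ cj x A).subgroupOf A} with h𝓜
  have h1 : 𝓡.ncard ≤ 𝓜.ncard := by
    refine Set.ncard_le_ncard_of_injOn (fun M => M.subgroupOf A) ?_ ?_ (Set.toFinite _)
    · rintro _ ⟨x, hx, rfl, h2⟩
      exact ⟨x, hx, ⟨x, hx, rfl, h2⟩, rfl⟩
    · rintro _ ⟨x, _, rfl, _⟩ _ ⟨y, _, rfl, _⟩ e
      have e1 := congrArg (Subgroup.map A.subtype) e
      simp only [Subgroup.subgroupOf_map_subtype] at e1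
      rw [inf_eq_left.2 (inf_le_left : A ⊓ cj x A ≤ A), inf_eq_left.2 (inf_le_left : A ⊓ cj y A ≤ A)] at e1
      exact e1
  refine h1.trans (ncard_np_le hg hj hC hE ?_ ?_ ?_ ?_)
  · rintro _ ⟨x, hx, -, rfl⟩
    have hc : Nat.card ((A ⊓ cj x A).subgroupOf A) = Nat.card (A ⊓ cj x A : Subgroup Q) :=
      Nat.card_congr (Subgroup.subgroupOfEquivOfLe inf_le_left).toEquiv
    have hmul := ((A ⊓ cj x A).subgroupOf A).card_mul_index
    rw [hc] at hmul
    rw [Nat.le_div_iff_mul_le (by norm_num), ← hmul, mul_comm]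
    exact Nat.mul_le_mul_right _ (EPT.six_le h hS.no_abelian hx)
  · rintro _ ⟨x, hx, -, rfl⟩ e
    apply h.M0 x hx
    rw [Subgroup.subgroupOf_eq_bot] at e
    exact e.eq_bot_of_le inf_le_left
  · rintro _ ⟨x, hx, -, rfl⟩ K hK hne b hb
    set! E : (A ⊓ cj x A).subgroupOf A ≃* (A ⊓ cj x A : Subgroup Q) :=
      Subgroup.subgroupOfEquivOfLe (inf_le_left : A ⊓ cj x A ≤ A) with hE
    have hch := char_map E hK
    have hn := h.norm_char hx (K.map E.toMonoidHom) (hK := hch) (by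
      intro e
      rw [Subgroup.map_eq_bot_iff_of_injective _ E.injective] at e
      exact hne e) (a := (b : Q)) b.2 (by
      rintro _ ⟨_, ⟨k, hk, rfl⟩, rfl⟩
      obtain ⟨k', hk', e'⟩ := hb _ ⟨k, hk, rfl⟩
      refine ⟨_, ⟨k', hk', rfl⟩, ?_⟩
      have e2 := congrArg (Subtype.val) e'
      exact e2)
    exact ⟨b.2, hn⟩
  · rintro _ ⟨x, hx, ⟨x', hx', exx', h𝓡x⟩, rfl⟩ K hK hne hel
    -- the image of `K` is invariant
    set! R : Subgroup Q := (K.map ((A ⊓ cj x A).subgroupOf A).subtype).map A.subtype with hRdef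
    have hRmem : ∀ y, y ∈ R ↔ ∃ k ∈ K, ((k : A) : Q) = y := by
      intro y
      constructor
      · rintro ⟨_, ⟨k, hk, rfl⟩, rfl⟩
        exact ⟨k, hk, rfl⟩
      · rintro ⟨k, hk, rfl⟩
        exact ⟨_, ⟨k, hk, rfl⟩, rfl⟩
    have hRM : R ≤ A ⊓ cj x A := by
      intro y hy
      obtain ⟨k, _, rfl⟩ := (hRmem y).1 hy
      exact k.2
    have hRx : ∀ σ : MulAut Q, (∀ y ∈ A ⊓ cj x A, σ y ∈ A ⊓ cj x A) → ∀ k ∈ R, σ k ∈ R := by
      intro σ hσ
      have hA : ∀ y : (A ⊓ cj x A).subgroupOf A, σ ((y : A) : Q) ∈ A ⊓ cj x A := fun y => hσ _ y.2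
      let f : (A ⊓ cj x A).subgroupOf A →* (A ⊓ cj x A).subgroupOf A :=
        { toFun := fun y => ⟨⟨σ ((y : A) : Q), (mem_inf.1 (hA y)).1⟩, hA y⟩
          map_one' := by
            apply Subtype.ext
            apply Subtype.ext
            exact map_one σ
          map_mul' := fun y z => by
            apply Subtype.ext
            apply Subtype.ext
            exact map_mul σ _ _ }
      have hf : Function.Injective f := by
        intro y z e
        have e' : σ ((y : A) : Q) = σ ((z : A) : Q) := Subtype.ext_iff.1 (Subtype.ext_iff.1 e)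
        exact Subtype.ext (Subtype.ext (σ.injective e'))
      let τ : MulAut ((A ⊓ cj x A).subgroupOf A) := MulEquiv.ofBijective f (Finite.injective_iff_bijective.1 hf)
      have hτ : K.map τ.toMonoidHom = K := Subgroup.characteristic_iff_map_eq.1 hK τ
      intro y hy
      obtain ⟨k, hk, rfl⟩ := (hRmem y).1 hy
      have h2 : τ k ∈ K := by
        rw [← hτ]
        exact ⟨k, hk, rfl⟩
      exact (hRmem _).2 ⟨τ k, h2, rfl⟩
    have hRp : IsPGroup p R := by
      rintro ⟨y, hy⟩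
      obtain ⟨k, hk, rfl⟩ := (hRmem y).1 hy
      refine ⟨1, Subtype.ext ?_⟩
      rw [pow_one]
      have h3 := hel.exp k hk
      have h4 : ((k : A) : Q) ^ p = 1 := by
        have := congrArg (fun z : (A ⊓ cj x A).subgroupOf A => ((z : A) : Q)) h3
        simpa only [_root_.SubmonoidClass.coe_pow, _root_.OneMemClass.coe_one] using this
      exact h4
    have h2 := h𝓡x R (exx' ▸ hRM) (fun σ hσ hσx => hRx σ fun y hy => by
      rw [exx'] at hy ⊢
      exact h.stab_M0 hσ hσx hy) hRp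
    apply hne
    rw [Subgroup.eq_bot_iff_forall]
    intro k hk
    have h3 : ((k : A) : Q) ∈ R := (hRmem _).2 ⟨k, hk, rfl⟩
    rw [h2, mem_bot] at h3
    exact Subtype.ext (Subtype.ext h3)

/-- **the bound for the index, own characteristic** -/
theorem EPT.index_own [Fact p.Prime] (hs : IsSimpleGroup Q) (h : EPT A Γ) (hg : TwoGen.{u}) (hS : LieSoc p A N)
    {a j : ℕ} (ha : ¬ p ^ (a + 1) * Nat.card N ∣ Nat.card A) (hj : Nat.card A < 60 ^ 60 ^ j) {C : ℕ}
    (hC : ClsLe p C A) {E : ℕ}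
    (hE : (∃ s : ℕ, s.Prime ∧ 5 ≤ s ∧ s ^ 2 ∣ Nat.card A) → Nat.card A ^ (2 + j) / 3600 ≤ E) :
    A.index ≤ 1 + (Nat.card A + Nat.card A ^ a + (C * (Nat.card A / 6) + Nat.card A ^ 2 / 60 + E)) *
      (2 * (Nat.card A / 6)) :=
  index_le_of (EPT.ncard_own h hg hS ha hj hC hE)
    (Cfsg.Agent.H173.EP.ub1 hs h (by norm_num) fun _ hx => EPT.six_le h hS.no_abelian hx) le_rfl

end Cfsg.Agent.H12.EP.BT
end
end

-- part: H12/EP/Own
section
set_option linter.all false
open scoped Cfsg.Agent.FastGrp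

/-!
# S3499-VII-BT-COUNT (helper12), part 5: closed forms of the own characteristic bound

`h : EPT A Γ`, `hsoc : HasSoc A L`, `L` simple nonabelian with `HasFilt p L` (Lie type in characteristic `p`),
`¬ p ^ 2 * |L| ∣ |A|`, at most `C ≤ |A|` classes of elementary abelian `s`-subgroups, `s ≠ p`.

* `card_own` : `10800 |Q| ≤ |A| ^ (4 + j) + 800 |A| ^ 4` if `|A| < 60 ^ 60 ^ j`;
* `card_own_one` : `|Q| ≤ |A| ^ 5` if `|A| < 60 ^ 60`;
* `card_own_four` : `10800 |Q| ≤ 800 |A| ^ 4` if `s ^ 2 ∤ |A|` for all primes `s ≥ 5`.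
-/

set_option autoImplicit false
set_option linter.unusedSectionVars false

namespace Cfsg.Agent.H12.EP.BT

open Subgroup Cfsg.Agent.H284 Cfsg.Agent.H59.EP Cfsg.Agent.H419.EP Cfsg.Agent.KFacts.RgdFilt

universe u

variable {Q : Type u} [Group Q] [Finite Q] {A : Subgroup Q} {Γ : Subgroup (MulAut Q)} {p : ℕ}

/-- from `HasSoc` -/
theorem lieSoc_of_hasSoc [Fact p.Prime] {L : Type*} [Group L] (hsoc : HasSoc A L) (hL : IsSimpleGroup L)
    (hLn : ¬ ∀ a b : L, a * b = b * a) (hF : HasFilt p L) : ∃ N, LieSoc p A N ∧ Nat.card N = Nat.card L := by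
  obtain ⟨N, h1, h2, h3, ⟨e⟩⟩ := hsoc
  have hLfin : Finite L := Finite.of_equiv _ e.toEquiv
  have hNs : IsSimpleGroup N := e.isSimpleGroup
  have hNn : ¬ ∀ a b : N, a * b = b * a := by
    intro h
    apply hLn
    intro a b
    apply e.symm.injective
    rw [map_mul, map_mul]
    exact h _ _
  refine ⟨N, ⟨h1, h2, h3, hNs, ?_, ?_⟩, Nat.card_congr e.toEquiv⟩
  · intro h
    apply hNn
    intro a b
    exact Subtype.ext (h a a.2 b b.2)
  · apply exists_pars (HasFilt.of_equiv e.symm hF)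
    push Not at hNn
    exact hNn

theorem sixty_le_card {N : Subgroup Q} (hS : LieSoc p A N) : 60 ≤ Nat.card A := by
  have h1 : ¬ Group.IsSolvable N := by
    intro h
    have := hS.simple
    apply hS.nab
    intro a ha b hb
    exact Subtype.ext_iff.1 (IsSimpleGroup.comm_iff_isSolvable.2 h (⟨a, ha⟩ : N) ⟨b, hb⟩)
  exact (Cfsg.Agent.H168.NoSolv.sixty_le h1).trans (Subgroup.card_le_of_le hS.le)

theorem num_own {n C x y E i q : ℕ} (hn : 60 ≤ n) (hC : C ≤ n) (hx : 6 * x ≤ n) (hy : 60 * y ≤ n ^ 2)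
    (hi : i ≤ 1 + (n + n ^ 1 + (C * x + y + E)) * (2 * x)) (hq : q = n * i) :
    10800 * q ≤ 800 * n ^ 4 + n ^ 2 * (3600 * E) := by
  subst hq
  have h1 : 10800 * ((n + n ^ 1 + (C * x + y + E)) * (2 * x)) ≤ n * (7200 * n + 660 * n ^ 2 + 3600 * E) := by
    have e1 : 10800 * ((n + n ^ 1 + (C * x + y + E)) * (2 * x)) =
        (6 * x) * (7200 * n + 600 * (C * (6 * x)) + 60 * (60 * y) + 3600 * E) := by ring
    rw [e1]
    apply Nat.mul_le_mul hx
    have h2 : C * (6 * x) ≤ n * n := Nat.mul_le_mul hC hx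
    nlinarith
  calc 10800 * (n * i) = n * (10800 * i) := by ring
    _ ≤ n * (10800 + n * (7200 * n + 660 * n ^ 2 + 3600 * E)) := by
        apply Nat.mul_le_mul_left
        calc 10800 * i ≤ 10800 * (1 + (n + n ^ 1 + (C * x + y + E)) * (2 * x)) := Nat.mul_le_mul_left _ hi
          _ = 10800 + 10800 * ((n + n ^ 1 + (C * x + y + E)) * (2 * x)) := by ring
          _ ≤ _ := Nat.add_le_add_left h1 _
    _ = (10800 * n + 7200 * n ^ 3 + 660 * n ^ 4) + n ^ 2 * (3600 * E) := by ring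
    _ ≤ _ := by
        apply Nat.add_le_add_right
        have h3 : 60 * n ^ 3 ≤ n ^ 4 := by
          have : n ^ 4 = n * n ^ 3 := by ring
          rw [this]
          exact Nat.mul_le_mul_right _ hn
        have h4 : 60 * n ≤ n ^ 2 := by nlinarith
        have h5 : n ^ 2 ≤ n ^ 4 := Nat.pow_le_pow_right (by omega) (by omega)
        nlinarith

/-- **closed form** -/
theorem card_own [Fact p.Prime] (hs : IsSimpleGroup Q) (h : EPT A Γ) (hg : TwoGen.{u}) {L : Type*} [Group L]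
    (hsoc : HasSoc A L) (hL : IsSimpleGroup L) (hLn : ¬ ∀ a b : L, a * b = b * a) (hF : HasFilt p L)
    (ha : ¬ p ^ 2 * Nat.card L ∣ Nat.card A) {j : ℕ} (hj : Nat.card A < 60 ^ 60 ^ j) {C : ℕ} (hC : ClsLe p C A)
    (hCA : C ≤ Nat.card A) : 10800 * Nat.card Q ≤ Nat.card A ^ (4 + j) + 800 * Nat.card A ^ 4 := by
  obtain ⟨N, hS, hN⟩ := lieSoc_of_hasSoc hsoc hL hLn hF
  rw [← hN] at ha
  have h1 := EPT.index_own hs h hg hS (a := 1) ha hj hC (E := Nat.card A ^ (2 + j) / 3600) (fun _ => le_rfl)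
  have h2 := num_own (sixty_le_card hS) hCA (Nat.mul_div_le _ 6) (Nat.mul_div_le _ 60) h1 (A.card_mul_index).symm
  refine h2.trans ?_
  rw [add_comm]
  apply Nat.add_le_add_right
  calc Nat.card A ^ 2 * (3600 * (Nat.card A ^ (2 + j) / 3600)) ≤ Nat.card A ^ 2 * Nat.card A ^ (2 + j) :=
        Nat.mul_le_mul_left _ (Nat.mul_div_le _ _)
    _ = Nat.card A ^ (4 + j) := by rw [← pow_add]; congr 1; omega

/-- `|Q| ≤ |A| ^ 5` -/
theorem card_own_one [Fact p.Prime] (hs : IsSimpleGroup Q) (h : EPT A Γ) (hg : TwoGen.{u}) {L : Type*} [Group L]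
    (hsoc : HasSoc A L) (hL : IsSimpleGroup L) (hLn : ¬ ∀ a b : L, a * b = b * a) (hF : HasFilt p L)
    (ha : ¬ p ^ 2 * Nat.card L ∣ Nat.card A) {j : ℕ} (hj0 : 1 ≤ j) (hj : Nat.card A < 60 ^ 60 ^ j) {C : ℕ}
    (hC : ClsLe p C A) (hCA : C ≤ Nat.card A) : 10000 * Nat.card Q ≤ Nat.card A ^ (4 + j) * 14 := by
  have h1 := card_own hs h hg hsoc hL hLn hF ha hj hC hCA
  obtain ⟨N, hS, hN⟩ := lieSoc_of_hasSoc hsoc hL hLn hF
  have h60 := sixty_le_card hS
  have h2 : 60 * Nat.card A ^ 4 ≤ Nat.card A ^ (4 + j) := by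
    calc 60 * Nat.card A ^ 4 ≤ Nat.card A * Nat.card A ^ 4 := Nat.mul_le_mul_right _ h60
      _ = Nat.card A ^ 5 := by ring
      _ ≤ _ := Nat.pow_le_pow_right (by omega) (by omega)
  omega

/-- `|Q| ≤ |A| ^ 4` without squares of primes `≥ 5` in `|A|` -/
theorem card_own_four [Fact p.Prime] (hs : IsSimpleGroup Q) (h : EPT A Γ) (hg : TwoGen.{u}) {L : Type*} [Group L]
    (hsoc : HasSoc A L) (hL : IsSimpleGroup L) (hLn : ¬ ∀ a b : L, a * b = b * a) (hF : HasFilt p L)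
    (ha : ¬ p ^ 2 * Nat.card L ∣ Nat.card A) (h5 : ∀ s, s.Prime → 5 ≤ s → ¬ s ^ 2 ∣ Nat.card A) {C : ℕ}
    (hC : ClsLe p C A) (hCA : C ≤ Nat.card A) : 10800 * Nat.card Q ≤ 800 * Nat.card A ^ 4 := by
  obtain ⟨N, hS, hN⟩ := lieSoc_of_hasSoc hsoc hL hLn hF
  rw [← hN] at ha
  obtain ⟨j, hj⟩ : ∃ j, Nat.card A < 60 ^ 60 ^ j := by
    refine ⟨Nat.card A, ?_⟩
    calc Nat.card A < 60 ^ Nat.card A := Nat.lt_pow_self (by norm_num)
      _ ≤ _ := Nat.pow_le_pow_right (by norm_num) (Nat.lt_pow_self (by norm_num)).le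
  have h1 := EPT.index_own hs h hg hS (a := 1) ha hj hC (E := 0)
    (fun ⟨s, hs, hs5, hsd⟩ => absurd hsd (h5 s hs hs5))
  have h2 := num_own (sixty_le_card hS) hCA (Nat.mul_div_le _ 6) (Nat.mul_div_le _ 60) h1 (A.card_mul_index).symm
  simpa using h2

theorem num_own_sq {n C x y E i q j : ℕ} (hn : 60 ≤ n) (hC : C ≤ n ^ 2) (hx : 6 * x ≤ n) (hy : 60 * y ≤ n ^ 2)
    (hE : 3600 * E ≤ n ^ (3 + j)) (hi : i ≤ 1 + (n + n ^ 1 + (C * x + y + E)) * (2 * x)) (hq : q = n * i) :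
    10 * q ≤ n ^ (5 + j) := by
  subst hq
  have hnj : 1 ≤ n ^ j := Nat.one_le_pow _ _ (by omega)
  have e5 : n ^ (5 + j) = n ^ 5 * n ^ j := pow_add _ _ _
  have e3 : n ^ (3 + j) = n ^ 3 * n ^ j := pow_add _ _ _
  rw [e3] at hE
  have h1 : 3600 * ((n + n ^ 1 + (C * x + y + E)) * (2 * x)) ≤ n * (2400 * n + 200 * n ^ 3 + 20 * n ^ 2 + 1200 * E) := by
    have e1 : 3600 * ((n + n ^ 1 + (C * x + y + E)) * (2 * x)) =
        (6 * x) * (2400 * n + 200 * (C * (6 * x)) + 20 * (60 * y) + 1200 * E) := by ring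
    rw [e1]
    apply Nat.mul_le_mul hx
    have h2 : C * (6 * x) ≤ n ^ 2 * n := Nat.mul_le_mul hC hx
    have e2 : n ^ 2 * n = n ^ 3 := by ring
    rw [e2] at h2
    omega
  have h4 : 3600 ≤ n ^ 2 := by nlinarith
  have h6 : 3600 * n ^ 3 ≤ n ^ 5 := by
    have : n ^ 5 = n ^ 2 * n ^ 3 := by ring
    rw [this]
    exact Nat.mul_le_mul_right _ h4
  have h7 : 60 * n ^ 4 ≤ n ^ 5 := by
    have : n ^ 5 = n * n ^ 4 := by ring
    rw [this]
    exact Nat.mul_le_mul_right _ hn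
  have h8 : 3600 * n ≤ n ^ 3 := by
    have : n ^ 3 = n ^ 2 * n := by ring
    rw [this]
    exact Nat.mul_le_mul_right _ h4
  have h9 : 3600 * (n * i) ≤ 3600 * n + 2400 * n ^ 3 + 200 * n ^ 5 + 20 * n ^ 4 + n ^ 2 * (1200 * E) := by
    calc 3600 * (n * i) = n * (3600 * i) := by ring
      _ ≤ n * (3600 + n * (2400 * n + 200 * n ^ 3 + 20 * n ^ 2 + 1200 * E)) := by
          apply Nat.mul_le_mul_left
          calc 3600 * i ≤ 3600 * (1 + (n + n ^ 1 + (C * x + y + E)) * (2 * x)) := Nat.mul_le_mul_left _ hi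
            _ = 3600 + 3600 * ((n + n ^ 1 + (C * x + y + E)) * (2 * x)) := by ring
            _ ≤ _ := Nat.add_le_add_left h1 _
      _ = _ := by ring
  have h10 : 3 * (n ^ 2 * (1200 * E)) ≤ n ^ 5 * n ^ j := by
    calc 3 * (n ^ 2 * (1200 * E)) = n ^ 2 * (3600 * E) := by ring
      _ ≤ n ^ 2 * (n ^ 3 * n ^ j) := Nat.mul_le_mul_left _ hE
      _ = n ^ 5 * n ^ j := by ring
  have h11 : n ^ 5 ≤ n ^ 5 * n ^ j := Nat.le_mul_of_pos_right _ hnj
  have h12 : n ^ 3 ≤ n ^ 5 := Nat.pow_le_pow_right (by omega) (by omega)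
  rw [e5]
  omega

/-- `|Q| ≤ |A| ^ (4 + j)` for `C ≤ |A| ^ 2` -/
theorem card_own_sq [Fact p.Prime] (hs : IsSimpleGroup Q) (h : EPT A Γ) (hg : TwoGen.{u}) {L : Type*} [Group L]
    (hsoc : HasSoc A L) (hL : IsSimpleGroup L) (hLn : ¬ ∀ a b : L, a * b = b * a) (hF : HasFilt p L)
    (ha : ¬ p ^ 2 * Nat.card L ∣ Nat.card A) {j : ℕ} (hj0 : 1 ≤ j) (hj : Nat.card A < 60 ^ 60 ^ j) {C : ℕ}
    (hC : ClsLe p C A) (hCA : C ≤ Nat.card A ^ 2) : 10 * Nat.card Q ≤ Nat.card A ^ (4 + j) := by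
  obtain ⟨N, hS, hN⟩ := lieSoc_of_hasSoc hsoc hL hLn hF
  rw [← hN] at ha
  have h1 := EPT.index_own hs h hg hS (a := 1) ha hj hC (E := Nat.card A ^ (2 + j) / 3600) (fun _ => le_rfl)
  obtain ⟨j', rfl⟩ : ∃ j', j = j' + 1 := ⟨j - 1, by omega⟩
  have h2 := num_own_sq (j := j') (sixty_le_card hS) hCA (Nat.mul_div_le _ 6) (Nat.mul_div_le _ 60) (by
    refine (Nat.mul_div_le (Nat.card A ^ (2 + (j' + 1))) 3600).trans (le_of_eq ?_)
    congr 1
    omega) h1 (A.card_mul_index).symm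
  have e : 4 + (j' + 1) = 5 + j' := by omega
  rw [e]
  exact h2

end Cfsg.Agent.H12.EP.BT
end
end
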